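import Groth.Agent.H12Pic.PicCurve.BaseChangePic
import Groth.Agent.H22Alg.NormalProd
import Groth.Agent.H05EGA4.NormalTensorGeom
import Groth.Prelude.Def_PicRel2

/-!
# Base change of étale Picard sheaves and normality over an algebraic closure
-/

set_option autoImplicit false
set_option linter.style.haveILetI false
set_option linter.unusedSectionVars false
set_option backward.isDefEq.respectTransparency.types false
set_option maxHeartbeats 800000

universe u

open CategoryTheory CategoryTheory.Limits AlgebraicGeometry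

noncomputable section

namespace Groth.Agent.H28PicNorm

open Groth.Agent.H17.PullCl
open Groth.Agent.H12Pic.PicCurve.BaseChangePic

variable {X S S' : Scheme.{u}} (f : X ⟶ S) (g : S' ⟶ S) {P : Over S}
  {φ : ∀ T : Over S, PicF.Cl (PicF.XT f T) → (T ⟶ P)}

/-- The base change of a scheme representing the étale Picard sheaf represents it. -/
theorem isRelPic_bc (hP : PicRel.IsRelPic f P φ) :
    PicRel.IsRelPic (pullback.snd f g) (bcP g P) (bcφ f g P φ) where
  natural T T' h c hc := hom_ext_bcP g P <| by
    rw [Over.comp_left, Category.assoc, bcφ_fst, bcφ_fst, toS_pullCl,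
      hP.natural _ _ (downHom g h) _ (isInvertibleCl_toS f g T hc)]
    rfl
  locallySurjective T a := by
    let a₀ : down g T ⟶ P := Over.homMk (a.left ≫ pullback.fst P.hom g) (by
      rw [Category.assoc, pullback.condition, ← Category.assoc]
      exact congrArg (· ≫ g) (Over.w a))
    obtain ⟨ι, U, hU, hR'⟩ := hP.locallySurjective (down g T) a₀
    refine ⟨ι, U, hU, fun m => ?_⟩
    obtain ⟨c, hc, hφ⟩ := hR' m
    let i : down g (PicRel.ovr T (U m)) ⟶ PicRel.ovr (down g T) (U m) :=
      Over.homMk (𝟙 _) ((Category.id_comp _).trans (Category.assoc _ T.hom g).symm)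
    refine ⟨PicF.pullCl (pullbackLeftPullbackSndIso f g (PicRel.ovr T (U m)).hom).hom
      (PicF.pullCl (PicF.XTmap f i) c), isInvertibleCl_pullCl _ (isInvertibleCl_pullCl _ hc),
      hom_ext_bcP g P ?_⟩
    rw [bcφ_fst, toS, ← pullCl_comp, Iso.inv_hom_id]
    erw [pullCl_id]
    rw [hP.natural _ _ i _ hc, hφ]
    exact (Category.id_comp _).trans (Category.assoc _ _ _).symm
  locallyInjective T c c' hc hc' h := by
    have h' : φ (down g T) (toS f g T c) = φ (down g T) (toS f g T c') := Over.OverMorphism.ext <| by
      rw [← bcφ_fst, ← bcφ_fst, h]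
    obtain ⟨ι, U, hU, hR'⟩ := hP.locallyInjective _ _ _ (isInvertibleCl_toS f g T hc)
      (isInvertibleCl_toS f g T hc') h'
    refine ⟨ι, U, hU, fun m => ?_⟩
    let i : down g (PicRel.ovr T (U m)) ⟶ PicRel.ovr (down g T) (U m) :=
      Over.homMk (𝟙 _) ((Category.id_comp _).trans (Category.assoc _ T.hom g).symm)
    have hi : downHom g (PicRel.ovrHom T (U m)) = i ≫ PicRel.ovrHom (down g T) (U m) :=
      Over.OverMorphism.ext (Category.id_comp _).symm
    have h2 := congrArg (PicF.pullCl (PicF.XTmap f i)) (hR' m)
    rw [← pullCl_comp, ← pullCl_comp, ← XTmap_comp, ← hi, ← toS_pullCl, ← toS_pullCl] at h2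
    have h3 := congrArg (PicF.pullCl (pullbackLeftPullbackSndIso f g (PicRel.ovr T (U m)).hom).hom) h2
    have key : ∀ d, PicF.pullCl (pullbackLeftPullbackSndIso f g (PicRel.ovr T (U m)).hom).hom
        (toS f g (PicRel.ovr T (U m)) d) = d := fun d => by
      rw [toS, ← pullCl_comp, Iso.hom_inv_id]
      exact pullCl_id d
    rwa [key, key] at h3

/-- Normality after all finite extensions gives normality over an algebraic extension. -/
theorem isNormalScheme_algebraic {k : Type u} [Field k] {X : Scheme.{u}} (f : X ⟶ Spec (CommRingCat.of k))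
    (hnorm : ∀ (k' : Type u) [Field k'] [Algebra k k'], Module.Finite k k' →
      Pi1.IsNormalScheme (pullback f (Spec.map (CommRingCat.ofHom (algebraMap k k')))))
    (L : Type u) [Field L] [Algebra k L] [Algebra.IsAlgebraic k L] :
    Pi1.IsNormalScheme (pullback f (Spec.map (CommRingCat.ofHom (algebraMap k L)))) := by
  refine H22Alg.NormalProd.isNormalScheme_pullback_spec f L fun U hU _ hf => ?_
  refine H05EGA4.isNormalRing_tensor_of_isAlgebraic (fun k' _ _ hk' => ?_) L
  let j : pullback (Spec.map (CommRingCat.ofHom (algebraMap k Γ(X, U))))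
      (Spec.map (CommRingCat.ofHom (algebraMap k k'))) ⟶
      pullback f (Spec.map (CommRingCat.ofHom (algebraMap k k'))) :=
    pullback.map _ _ _ _ hU.fromSpec (𝟙 _) (𝟙 _) (by rw [Category.comp_id, hf]) (by simp)
  haveI : IsOpenImmersion j := by dsimp only [j]; infer_instance
  exact H05EGA4.isNormalRing_of_ringEquiv (Algebra.TensorProduct.comm k Γ(X, U) k').toRingEquiv
    (H22Alg.NormalProd.isNormalRing_of_isNormalScheme_spec
      (H22Alg.NormalProd.isNormalScheme_of_isOpenImmersion (pullbackSpecIso k Γ(X, U) k').inv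
        (H22Alg.NormalProd.isNormalScheme_of_isOpenImmersion j (hnorm k' hk'))))

end Groth.Agent.H28PicNorm
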