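import Groth.Agent.H7Lim.Birational
import Groth.Agent.S2116
import Groth.Agent.H1CAlg.Serre
import Mathlib

/-!
# Normalised extension of a point of a curve over an algebraically closed field
-/

set_option autoImplicit false
set_option linter.style.haveILetI false
set_option linter.unusedSectionVars false
set_option backward.isDefEq.respectTransparency.types false
set_option maxHeartbeats 1600000
set_option synthInstance.maxHeartbeats 100000

universe u

open CategoryTheory CategoryTheory.Limits AlgebraicGeometry IsLocalRing

noncomputable section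

namespace Groth.Agent.H28PicNorm

/-- A smooth curve dominating a discrete valuation ring after a finite extension of the fraction
field. -/
theorem exists_smooth_data_ring (K : Type u) [Field K] [IsAlgClosed K]
    (A : Type u) [CommRing A] [IsDomain A] [IsIntegrallyClosed A] [Algebra K A] [Algebra.FiniteType K A]
    (R : Type u) [CommRing R] [IsDomain R] [IsDiscreteValuationRing R] [Algebra A R] (p : Ideal A) [p.IsMaximal]
    [IsLocalization.AtPrime R p]
    (F : Type u) [Field F] [Algebra R F] [IsFractionRing R F]
    (L : Type u) [Field L] [Algebra F L] [Module.Finite F L] [Algebra.IsSeparable F L] :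
    ∃ (B : Type u) (_ : CommRing B) (_ : Algebra K B) (_ : Algebra.Smooth K B)
      (O : Type u) (_ : CommRing O) (_ : IsDomain O) (_ : IsDiscreteValuationRing O) (_ : Algebra B O)
      (M : Submonoid B) (_ : IsLocalization M O) (_ : Algebra O L) (_ : IsFractionRing O L)
      (ρ : R →+* O) (_ : IsLocalHom ρ),
      (algebraMap O L).comp ρ = (algebraMap F L).comp (algebraMap R F) ∧
      ρ.comp ((algebraMap A R).comp (algebraMap K A)) = (algebraMap B O).comp (algebraMap K B) := by
  letI algAF : Algebra A F := ((algebraMap R F).comp (algebraMap A R)).toAlgebra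
  haveI : IsScalarTower A R F := IsScalarTower.of_algebraMap_eq fun _ => rfl
  haveI : FaithfulSMul A F := (faithfulSMul_iff_algebraMap_injective A F).2
    ((IsFractionRing.injective R F).comp (IsLocalization.injective R p.primeCompl_le_nonZeroDivisors))
  haveI : IsFractionRing A F := IsFractionRing.of_field A F fun z => by
    obtain ⟨r, t, -, rfl⟩ := IsFractionRing.div_surjective (A := R) z
    obtain ⟨a, u, rfl⟩ := IsLocalization.exists_mk'_eq p.primeCompl r
    obtain ⟨a', u', rfl⟩ := IsLocalization.exists_mk'_eq p.primeCompl t
    refine ⟨a * u', a' * u, ?_⟩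
    have h1 : ∀ (c : A) (w : p.primeCompl), algebraMap R F (IsLocalization.mk' R c w) = algebraMap A F c / algebraMap A F w := by
      intro c w
      rw [eq_div_iff ((map_ne_zero_iff _ (FaithfulSMul.algebraMap_injective A F)).2
        (nonZeroDivisors.ne_zero (p.primeCompl_le_nonZeroDivisors w.2))),
        IsScalarTower.algebraMap_apply A R F c, IsScalarTower.algebraMap_apply A R F w, ← map_mul,
        IsLocalization.mk'_spec]
    rw [h1, h1, map_mul, map_mul, div_div_div_eq]
    ring
  letI algAL : Algebra A L := ((algebraMap F L).comp (algebraMap A F)).toAlgebra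
  haveI : IsScalarTower A F L := IsScalarTower.of_algebraMap_eq fun _ => rfl
  haveI : IsNoetherianRing A := Algebra.FiniteType.isNoetherianRing K A
  let B := integralClosure A L
  haveI : Module.Finite A B := IsIntegralClosure.finite A F L B
  haveI : IsFractionRing B L := integralClosure.isFractionRing_of_finite_extension F L
  haveI : IsIntegrallyClosed B := integralClosure.isIntegrallyClosedOfFiniteExtension F
  haveI hAB : FaithfulSMul A B := by
    rw [faithfulSMul_iff_algebraMap_injective]
    intro a b h
    exact (algebraMap F L).injective.comp (IsFractionRing.injective A F) (congrArg Subtype.val h)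
  haveI : Algebra.IsIntegral A B := inferInstance
  obtain ⟨q, hqm, hq⟩ : ∃ q : Ideal B, q.IsMaximal ∧ q.comap (algebraMap A B) = p :=
    Ideal.exists_ideal_over_maximal_of_isIntegral p
      (le_of_eq_of_le ((RingHom.injective_iff_ker_eq_bot _).1 (FaithfulSMul.algebraMap_injective A B)) bot_le)
  haveI := hqm
  letI : Algebra K B := ((algebraMap A B).comp (algebraMap K A)).toAlgebra
  haveI : IsScalarTower K A B := IsScalarTower.of_algebraMap_eq fun _ => rfl
  haveI : Algebra.FiniteType K B := Algebra.FiniteType.trans ‹Algebra.FiniteType K A› inferInstance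
  haveI : IsNoetherianRing B := Algebra.FiniteType.isNoetherianRing K B
  let O := Localization.AtPrime q
  haveI : IsDomain O := IsLocalization.isDomain_localization q.primeCompl_le_nonZeroDivisors
  haveI : IsIntegrallyClosed O := isIntegrallyClosed_of_isLocalization O q.primeCompl q.primeCompl_le_nonZeroDivisors
  have hq0 : q ≠ ⊥ := by
    intro h
    rw [h] at hq
    have hp0 : p = ⊥ := by
      rw [← hq]
      exact Ideal.comap_bot_of_injective _ (FaithfulSMul.algebraMap_injective A B)
    refine IsDiscreteValuationRing.not_isField R ?_
    rw [IsLocalRing.isField_iff_maximalIdeal_eq, ← IsLocalization.AtPrime.map_eq_maximalIdeal p R, hp0,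
      Ideal.map_bot]
  haveI : Ring.DimensionLEOne O := by
    refine ⟨fun {P} hP hPp => ?_⟩
    haveI := hPp
    have hle : P.comap (algebraMap B O) ≤ q :=
      le_of_le_of_eq (Ideal.comap_mono (IsLocalRing.le_maximalIdeal hPp.ne_top))
        (IsLocalization.AtPrime.comap_maximalIdeal O q)
    rcases hle.eq_or_lt with he | hlt
    · have hPe : P = maximalIdeal O := by
        refine le_antisymm (IsLocalRing.le_maximalIdeal hPp.ne_top) ?_
        rw [← IsLocalization.AtPrime.map_eq_maximalIdeal q O]
        exact (Ideal.map_mono he.ge).trans Ideal.map_comap_le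
      rw [hPe]; infer_instance
    · exfalso
      let Q := P.comap (algebraMap B O)
      have hQ0 : Q ≠ ⊥ := fun h => hP (by
        rw [← IsLocalization.map_comap q.primeCompl O P]
        show Ideal.map _ Q = ⊥
        rw [h, Ideal.map_bot])
      obtain ⟨b, hb, hbQ⟩ := Set.exists_of_ssubset hlt
      have h1 : Q.comap (algebraMap A B) < q.comap (algebraMap A B) :=
        Ideal.comap_lt_comap_of_integral_mem_sdiff hlt.le ⟨hb, hbQ⟩ (Algebra.IsIntegral.isIntegral b)
      rw [hq] at h1
      have h2 : Q.comap (algebraMap A B) ≠ ⊥ := fun h => hQ0 (Ideal.eq_bot_of_comap_eq_bot h)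
      let Q' := (Q.comap (algebraMap A B)).map (algebraMap A R)
      have hd : Disjoint (p.primeCompl : Set A) (Q.comap (algebraMap A B) : Set A) :=
        Set.disjoint_left.2 fun a ha haQ => ha (h1.le haQ)
      haveI hQp : Q'.IsPrime := IsLocalization.isPrime_of_isPrime_disjoint p.primeCompl R _ inferInstance hd
      have hQ'0 : Q' ≠ ⊥ := fun h => h2 (by
        rw [← IsLocalization.comap_map_of_isPrime_disjoint p.primeCompl R inferInstance hd]
        show Ideal.comap _ Q' = ⊥
        rw [h]
        exact Ideal.comap_bot_of_injective _ (IsLocalization.injective R p.primeCompl_le_nonZeroDivisors))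
      haveI := hQp.isMaximal hQ'0
      have h3 : Q' = maximalIdeal R := IsLocalRing.eq_maximalIdeal inferInstance
      have h4 : Q.comap (algebraMap A B) = p := by
        rw [← IsLocalization.comap_map_of_isPrime_disjoint p.primeCompl R inferInstance hd]
        show Ideal.comap _ Q' = p
        exact h3 ▸ IsLocalization.AtPrime.comap_maximalIdeal R p
      exact h1.ne h4
  have hOF : ¬ IsField O := fun h => hq0 (by
    rw [IsLocalRing.isField_iff_maximalIdeal_eq] at h
    rw [← IsLocalization.AtPrime.comap_maximalIdeal O q, h]
    exact Ideal.comap_bot_of_injective _ (IsLocalization.injective O q.primeCompl_le_nonZeroDivisors))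
  haveI : IsDedekindDomain O := { }
  haveI : IsDiscreteValuationRing O := ((IsDiscreteValuationRing.TFAE O hOF).out 0 2).2 ‹IsDedekindDomain O›
  haveI hreg : IsRegularLocalRing O := by
    refine H1CAlg.isRegularLocalRing_of_isIntegrallyClosed ?_
    exact (IsDiscreteValuationRing.ringKrullDim_eq_one O).le
  -- smoothness
  have hsm : (⟨q, inferInstance⟩ : PrimeSpectrum B) ∈ Algebra.smoothLocus K B := (S2116.result q).1 hreg
  haveI : Algebra.FinitePresentation K B := Algebra.FinitePresentation.of_finiteType.1 inferInstance
  obtain ⟨_, ⟨g, rfl⟩, hgq, hgs⟩ := PrimeSpectrum.isTopologicalBasis_basic_opens.exists_subset_of_mem_open hsm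
    Algebra.isOpen_smoothLocus
  let Bg := Localization.Away g
  haveI : Algebra.Smooth K Bg :=
    ⟨Algebra.basicOpen_subset_smoothLocus_iff.1 hgs, inferInstance⟩
  have hg' : g ∈ q.primeCompl := hgq
  have hgu : IsUnit (algebraMap B O g) := IsLocalization.map_units O (⟨g, hg'⟩ : q.primeCompl)
  letI algBgO : Algebra Bg O := RingHom.toAlgebra (IsLocalization.Away.lift (S := Bg) g hgu)
  letI : Module Bg O := algBgO.toModule
  letI : SMul Bg O := algBgO.toSMul
  haveI : IsScalarTower B Bg O :=
    IsScalarTower.of_algebraMap_eq (R := B) (S := Bg) (A := O) fun b =>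
      (IsLocalization.Away.lift_eq (S := Bg) g hgu b).symm
  haveI : IsLocalization (q.primeCompl.map (algebraMap B Bg)) O :=
    IsLocalization.isLocalization_of_submonoid_le Bg O (Submonoid.powers g) q.primeCompl
      ((Submonoid.powers_le).2 hg')
  letI : Algebra O L := (IsLocalization.lift (M := q.primeCompl) (g := algebraMap B L) (fun y => by
    refine IsUnit.mk0 _ fun h => ?_
    exact y.2 (by
      have : (y : B) = 0 := IsFractionRing.injective B L (by rw [h, map_zero])
      rw [this]; exact q.zero_mem))).toAlgebra
  haveI : IsScalarTower B O L := IsScalarTower.of_algebraMap_eq fun b =>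
    (IsLocalization.lift_eq _ b).symm
  haveI : IsFractionRing O L := IsFractionRing.isFractionRing_of_isDomain_of_isLocalization q.primeCompl O L
  let ρ : R →+* O := IsLocalization.lift (M := p.primeCompl) (g := (algebraMap B O).comp (algebraMap A B)) (fun y => by
    refine IsLocalization.map_units O (⟨algebraMap A B y, fun h => y.2 ?_⟩ : q.primeCompl)
    have : (y : A) ∈ q.comap (algebraMap A B) := h
    exact hq.le this)
  have hρ : ∀ a, ρ (algebraMap A R a) = algebraMap B O (algebraMap A B a) := fun a => IsLocalization.lift_eq _ a
  haveI : IsLocalHom ρ := by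
    refine ⟨fun r hr => ?_⟩
    obtain ⟨a, s, rfl⟩ := IsLocalization.exists_mk'_eq p.primeCompl r
    refine (IsLocalization.AtPrime.isUnit_mk'_iff R p a s).2 ?_
    intro ha
    have h1 : IsUnit (ρ (algebraMap A R a)) := by
      have := IsLocalization.mk'_spec R a s
      rw [← this, map_mul]
      exact hr.mul ((IsLocalization.map_units R s).map ρ)
    rw [hρ, IsLocalization.AtPrime.isUnit_to_map_iff O q] at h1
    apply h1
    have : a ∈ q.comap (algebraMap A B) := hq.ge ha
    exact this
  refine ⟨Bg, inferInstance, inferInstance, inferInstance, O, inferInstance, inferInstance, inferInstance,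
    inferInstance, q.primeCompl.map (algebraMap B Bg), inferInstance, inferInstance, inferInstance, ρ,
    inferInstance, ?_, ?_⟩
  · refine IsLocalization.ringHom_ext p.primeCompl (RingHom.ext fun a => ?_)
    show algebraMap O L (ρ (algebraMap A R a)) = algebraMap F L (algebraMap R F (algebraMap A R a))
    rw [hρ, ← IsScalarTower.algebraMap_apply B O L]
    rfl
  · refine RingHom.ext fun a => ?_
    show ρ (algebraMap A R (algebraMap K A a)) = algebraMap Bg O (algebraMap K Bg a)
    rw [hρ, IsScalarTower.algebraMap_apply K B Bg, ← IsScalarTower.algebraMap_apply B Bg O]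
    rfl

end Groth.Agent.H28PicNorm
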