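import Mathlib

/-!
# A rational map from a discrete valuation ring extends if it extends after a dominating extension
-/

set_option autoImplicit false
set_option linter.style.haveILetI false

universe u

open CategoryTheory CategoryTheory.Limits AlgebraicGeometry IsLocalRing

namespace Groth.Agent.H28PicNorm

/-- A morphism on the fraction field of a valuation ring `A` extending to a dominating local ring `B`
extends to `A`. -/
theorem exists_lift_of_dominating {A B F L : Type u} [CommRing A] [IsDomain A] [ValuationRing A]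
    [CommRing B] [IsLocalRing B] [Field F] [Field L] [Algebra A F] [IsFractionRing A F]
    (ρ : A →+* B) [IsLocalHom ρ] (ιB : B →+* L) (hιB : Function.Injective ιB) (σ : F →+* L)
    (hcomm : ιB.comp ρ = σ.comp (algebraMap A F))
    {P : Scheme.{u}} (x : Spec (CommRingCat.of F) ⟶ P) (h : Spec (CommRingCat.of B) ⟶ P)
    (hx : Spec.map (CommRingCat.ofHom ιB) ≫ h = Spec.map (CommRingCat.ofHom σ) ≫ x) :
    ∃ l : Spec (CommRingCat.of A) ⟶ P, Spec.map (CommRingCat.ofHom (algebraMap A F)) ≫ l = x := by
  obtain ⟨Q, hQ, hpQ, -⟩ := exists_isAffineOpen_mem_and_subset (x := h (closedPoint B)) (U := ⊤) trivial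
  have hr : Set.range h ⊆ Set.range hQ.fromSpec := by
    rw [hQ.range_fromSpec]
    rintro _ ⟨b, rfl⟩
    exact ((IsLocalRing.specializes_closedPoint b).map h.continuous).mem_open Q.2 hpQ
  have hrx : Set.range x ⊆ Set.range hQ.fromSpec := by
    rw [hQ.range_fromSpec]
    rintro _ ⟨a, rfl⟩
    have e : Spec.map (CommRingCat.ofHom σ) (closedPoint L) = a := Subsingleton.elim (α := PrimeSpectrum F) _ _
    have e' := congrArg (fun m : Spec (CommRingCat.of L) ⟶ P => m (closedPoint L)) hx
    rw [← e]
    show (Spec.map (CommRingCat.ofHom σ) ≫ x) (closedPoint L) ∈ (Q : Set P)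
    exact e' ▸ ((IsLocalRing.specializes_closedPoint _).map h.continuous).mem_open Q.2 hpQ
  obtain ⟨hB, hhB⟩ : ∃ m : Γ(P, Q) ⟶ CommRingCat.of B, Spec.map m ≫ hQ.fromSpec = h :=
    ⟨Spec.preimage (IsOpenImmersion.lift hQ.fromSpec h hr), by
      rw [Spec.map_preimage, IsOpenImmersion.lift_fac]⟩
  obtain ⟨hF, hhF⟩ : ∃ m : Γ(P, Q) ⟶ CommRingCat.of F, Spec.map m ≫ hQ.fromSpec = x :=
    ⟨Spec.preimage (IsOpenImmersion.lift hQ.fromSpec x hrx), by
      rw [Spec.map_preimage, IsOpenImmersion.lift_fac]⟩
  have hcomp : hB ≫ CommRingCat.ofHom ιB = hF ≫ CommRingCat.ofHom σ := by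
    refine Spec.map_injective ((cancel_mono hQ.fromSpec).1 ?_)
    rw [Spec.map_comp, Spec.map_comp, Category.assoc, Category.assoc, hhB, hhF, hx]
  have hinj : Function.Injective (algebraMap A F) := IsFractionRing.injective A F
  have hmem : ∀ r, ∃ a : A, algebraMap A F a = hF r := fun r => by
    rcases (ValuationRing.isInteger_or_isInteger A (hF r)) with ⟨a, ha⟩ | ⟨a, ha⟩
    · exact ⟨a, ha⟩
    · by_cases hu : IsUnit a
      · refine ⟨↑hu.unit⁻¹, ?_⟩
        rw [map_units_inv, IsUnit.unit_spec, ha, inv_inv]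
      · by_cases h0 : hF r = 0
        · exact ⟨0, by rw [map_zero, h0]⟩
        · exfalso
          have h1 : σ (hF r) = ιB (hB r) := (congrArg (fun m => m.hom r) hcomp).symm
          have h2 : ιB (ρ a * hB r) = ιB 1 := by
            rw [map_mul, ← h1, map_one, show ιB (ρ a) = σ (algebraMap A F a) from congrArg (fun m => m a) hcomm,
              ha, ← map_mul, inv_mul_cancel₀ h0, map_one]
          exact hu (isUnit_of_map_unit ρ a (IsUnit.of_mul_eq_one _ (hιB h2)))
  choose g hg using hmem
  let G : Γ(P, Q) →+* A :=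
    { toFun := g
      map_one' := hinj (by rw [hg, map_one, map_one])
      map_mul' := fun a b => hinj (by rw [hg, map_mul, map_mul, hg, hg])
      map_zero' := hinj (by rw [hg, map_zero, map_zero])
      map_add' := fun a b => hinj (by rw [hg, map_add, map_add, hg, hg]) }
  refine ⟨Spec.map (CommRingCat.ofHom G) ≫ hQ.fromSpec, ?_⟩
  rw [← Category.assoc, ← Spec.map_comp, ← hhF]
  congr 2
  ext r
  exact hg r

end Groth.Agent.H28PicNorm
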