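import Groth.Agent.H17.PicLim.RelPic
import Groth.Agent.H17.PullCl
import Groth.Agent.H29Ref.DenseExt
import Groth.Agent.H23Para.PairStalks
import Groth.Agent.H23Para.RS.Smooth
import Groth.Agent.H28Alg.RegularUFD
import Groth.Agent.H23Para.Pair
import Groth.Agent.H23Para.Samuel.Quotient
import Groth.Agent.H12AlgSp.UnivInj
import Groth.Agent.H17.ProjSmooth.Regular
import Groth.Agent.H28Neron.NormalSmooth
import Groth.Agent.H13Desc.Flat
import Groth.Agent.H1CAlg.Serre
import Groth.Agent.S1561
import Groth.Agent.H28Vert.TrivGeneric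

/-!
# Extension of invertible classes from the generic fibre of a normal scheme times a smooth curve
-/

set_option autoImplicit false
set_option linter.style.haveILetI false
set_option linter.unusedSectionVars false
set_option backward.isDefEq.respectTransparency.types false
set_option maxHeartbeats 1600000

universe u

open CategoryTheory CategoryTheory.Limits AlgebraicGeometry TopologicalSpace IsLocalRing

noncomputable section

namespace Groth.Agent.H28PicNorm

open Groth.Agent.H17.PullCl

/-- Flat preimmersions induce isomorphisms on stalks. -/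
theorem isIso_stalkMap {T W : Scheme.{u}} (a : T ⟶ W) [Flat a] [IsPreimmersion a] (t : T) :
    IsIso (a.stalkMap t) :=
  (ConcreteCategory.isIso_iff_bijective _).2
    ⟨(H13Desc.faithfullyFlat_stalkMap a t).injective, a.stalkMap_surjective t⟩

/-- In positive fibre dimension: a point with a proper generization in its fibre. -/
theorem one_le_ringKrullDim_of_specializes {Z : Scheme.{u}} {a b : Z} (h : a ⤳ b) (hne : a ≠ b) :
    (1 : WithBot ℕ∞) ≤ ringKrullDim (Z.presheaf.stalk b) := by
  rw [ringKrullDim_stalk_eq_coheight]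
  refine WithBot.coe_le_coe.2 (Order.one_le_iff_pos.2 (Order.coheight_pos.2 fun hmax => hne ?_))
  exact (h.antisymm (hmax h)).eq

theorem le_one_of_not_two_le {d : WithBot ℕ∞} (h : ¬ 2 ≤ d) : d ≤ 1 := by
  induction d with
  | bot => exact bot_le
  | coe a =>
    have h1 : a < (1 : ℕ∞) + 1 := by
      refine not_le.1 fun h2 => h ?_
      rw [show (2 : WithBot ℕ∞) = ((1 + 1 : ℕ∞) : WithBot ℕ∞) from (one_add_one_eq_two).symm]
      exact WithBot.coe_le_coe.2 h2
    exact WithBot.coe_le_coe.2 (Order.le_of_lt_add_one h1)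

/-- An invertible module on the open where the stalks are factorial or the given open, extends over a
closed set of parafactorial points. -/
theorem exists_invertible_extension' {W : Scheme.{u}} [IsLocallyNoetherian W] (U W₁ : W.Opens) (hU : U ≤ W₁)
    (L : (U : Scheme.{u}).Modules) (hL : PicF.IsInvertible L)
    (hufd : ∀ z ∈ W₁, z ∉ U → UniqueFactorizationMonoid (W.presheaf.stalk z))
    (hpara : ∀ z : W, z ∉ W₁ → ParaF.IsParafactorialLocalRing (W.presheaf.stalk z)) :
    ∃ L' : W.Modules, PicF.IsInvertible L' ∧ Nonempty (L'.restrict U.ι ≅ L) := by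
  let U₁ : W₁.toScheme.Opens := W₁.ι ⁻¹ᵁ U
  have hr : Set.range (U₁.ι ≫ W₁.ι) = Set.range U.ι := by
    rw [Scheme.Hom.comp_base, TopCat.coe_comp, Set.range_comp, Scheme.Opens.range_ι, Scheme.Opens.range_ι]
    exact (Set.image_preimage_eq_inter_range).trans (by rw [Scheme.Opens.range_ι]; exact Set.inter_eq_left.2 hU)
  let e := IsOpenImmersion.isoOfRangeEq (U₁.ι ≫ W₁.ι) U.ι hr
  obtain ⟨L₁, hL₁, ⟨e₁⟩⟩ := H29Ref.exists_invertible_extension U₁
    ((Scheme.Modules.restrictFunctor e.hom).obj L) (H23Para.isInvertible_restrict e.hom hL)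
    (fun z hz => by
      exact (W₁.stalkIso z).commRingCatIsoToRingEquiv.symm.toMulEquiv.uniqueFactorizationMonoid
        (hufd z.1 z.2 hz))
  let Y : Closeds W := ⟨(W₁ : Set W)ᶜ, W₁.2.isClosed_compl⟩
  have hY : Y.compl = W₁ := Opens.ext (compl_compl _)
  have hpair : ParaF.IsParafactorialPair W Y := (Groth.Agent.H23Para.pair_iff_stalks Y).2 fun y hy => hpara y hy
  have hle : (⊤ : W.Opens) ⊓ Y.compl ≤ W₁ := hY ▸ inf_le_right
  have hge : W₁ ≤ (⊤ : W.Opens) ⊓ Y.compl := hY ▸ le_inf le_top le_rfl
  obtain ⟨L₂, hL₂, ⟨e₂⟩⟩ := (hpair ⊤).2 ((Scheme.Modules.restrictFunctor (W.homOfLE hle)).obj L₁)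
    (H23Para.isInvertible_restrict _ hL₁)
  refine ⟨(Scheme.Modules.restrictFunctor W.topIso.inv).obj L₂, H23Para.isInvertible_restrict _ hL₂, ?_⟩
  let c : U.toScheme ⟶ ((⊤ : W.Opens) ⊓ Y.compl : W.Opens).toScheme := W.homOfLE (hU.trans hge)
  have hc1 : c ≫ W.homOfLE inf_le_left = U.ι ≫ W.topIso.inv := by
    rw [← cancel_mono W.topIso.hom]
    simp [c]
  have hc2 : c ≫ W.homOfLE hle = e.inv ≫ U₁.ι := by
    rw [← cancel_mono W₁.ι, Category.assoc, Category.assoc, IsOpenImmersion.isoOfRangeEq_inv_fac]
    simp [c]
  exact ⟨((Scheme.Modules.restrictFunctorComp U.ι W.topIso.inv).app L₂).symm ≪≫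
    ((Scheme.Modules.restrictFunctorCongr hc1).app L₂).symm ≪≫
    (Scheme.Modules.restrictFunctorComp c (W.homOfLE inf_le_left)).app L₂ ≪≫
    (Scheme.Modules.restrictFunctor c).mapIso e₂ ≪≫
    ((Scheme.Modules.restrictFunctorComp c (W.homOfLE hle)).app L₁).symm ≪≫
    (Scheme.Modules.restrictFunctorCongr hc2).app L₁ ≪≫
    (Scheme.Modules.restrictFunctorComp e.inv U₁.ι).app L₁ ≪≫
    (Scheme.Modules.restrictFunctor e.inv).mapIso e₁ ≪≫
    ((Scheme.Modules.restrictFunctorComp e.inv e.hom).app L).symm ≪≫
    (Scheme.Modules.restrictFunctorCongr e.inv_hom_id).app L ≪≫ Scheme.Modules.restrictFunctorId.app L⟩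

variable {K : Type u} [Field K] [IsAlgClosed K] {X : Scheme.{u}} (f : X ⟶ Spec (CommRingCat.of K))
  [LocallyOfFiniteType f]

variable (B : Type u) [CommRing B] [Algebra K B] [Algebra.Smooth K B]
  (O : Type u) [CommRing O] [IsDomain O] [IsDiscreteValuationRing O] [Algebra B O]
  (M : Submonoid B) [IsLocalization M O]
  (L : Type u) [Field L] [Algebra O L] [IsFractionRing O L]

/-- The base point of `O`. -/
abbrev basePt : Over (Spec (CommRingCat.of K)) :=
  Over.mk (Spec.map (CommRingCat.ofHom ((algebraMap B O).comp (algebraMap K B))))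

/-- The base point of the fraction field. -/
abbrev genPt : Over (Spec (CommRingCat.of K)) :=
  Over.mk (Spec.map (CommRingCat.ofHom (algebraMap O L)) ≫ (basePt (K := K) B O).hom)

/-- The generic point inclusion. -/
abbrev genHom : genPt (K := K) B O L ⟶ basePt B O := Over.homMk (Spec.map (CommRingCat.ofHom (algebraMap O L))) rfl

include M in
/-- Classes on the generic fibre extend. -/
theorem exists_extension_class (hX : Pi1.IsNormalScheme X)
    (c : PicF.Cl (PicF.XT f (genPt (K := K) B O L))) (hc : PicF.IsInvertibleCl c) :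
    ∃ c' : PicF.Cl (PicF.XT f (basePt (K := K) B O)), PicF.IsInvertibleCl c' ∧
      PicF.pullCl (PicF.XTmap f (genHom B O L)) c' = c := by
  haveI : IsLocallyNoetherian X := LocallyOfFiniteType.isLocallyNoetherian f
  haveI : IsNoetherianRing B := Algebra.FiniteType.isNoetherianRing K B
  haveI : IsNoetherianRing O := inferInstance
  -- the generic point is open
  obtain ⟨ϖ, hϖ⟩ := IsDiscreteValuationRing.exists_irreducible O
  haveI := H28Vert.isLocalization_away_fractionRing O hϖ
  haveI : IsLocalization.Away ϖ L :=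
    IsLocalization.isLocalization_of_algEquiv (Submonoid.powers ϖ) (FractionRing.algEquiv O L)
  haveI : IsOpenImmersion (Spec.map (CommRingCat.ofHom (algebraMap O L))) := IsOpenImmersion.of_isLocalization ϖ
  haveI : IsOpenImmersion (genHom (K := K) B O L).left := inferInstanceAs (IsOpenImmersion (Spec.map _))
  let gW := PicF.XTmap f (genHom (K := K) B O L)
  haveI : IsOpenImmersion gW :=
    MorphismProperty.of_isPullback (H17.PicLim.isPullback_XTmap f (genHom (K := K) B O L)).flip inferInstance
  let U := gW.opensRange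
  obtain ⟨N, rfl, hN⟩ := hc
  let e : U.toScheme ≅ PicF.XT f (genPt (K := K) B O L) := gW.isoOpensRange.symm
  have he : e.inv ≫ U.ι = gW := gW.isoOpensRange_hom_ι
  -- comparison with the model
  let TB : Over (Spec (CommRingCat.of K)) := Over.mk (Spec.map (CommRingCat.ofHom (algebraMap K B)))
  let sO : basePt (K := K) B O ⟶ TB := Over.homMk (Spec.map (CommRingCat.ofHom (algebraMap B O)))
    (by show Spec.map _ ≫ Spec.map _ = Spec.map _; rw [← Spec.map_comp]; rfl)
  haveI : Flat sO.left := by
    show Flat (Spec.map _)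
    rw [HasRingHomProperty.Spec_iff (P := @Flat), CommRingCat.hom_ofHom, RingHom.flat_algebraMap_iff]
    exact IsLocalization.flat O M
  haveI : IsPreimmersion sO.left := IsPreimmersion.of_isLocalization M
  let j := PicF.XTmap f sO
  haveI : Flat j := MorphismProperty.of_isPullback (H17.PicLim.isPullback_XTmap f sO).flip inferInstance
  haveI : IsPreimmersion j := MorphismProperty.of_isPullback (H17.PicLim.isPullback_XTmap f sO).flip inferInstance
  haveI : Smooth TB.hom := by
    show Smooth (Spec.map _)
    rw [HasRingHomProperty.Spec_iff (P := @Smooth), CommRingCat.hom_ofHom, RingHom.smooth_algebraMap]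
    infer_instance
  let f₁ := pullback.fst f TB.hom
  haveI : Smooth f₁ := MorphismProperty.pullback_fst _ _ inferInstance
  haveI : IsLocallyNoetherian (PicF.XT f TB) := LocallyOfFiniteType.isLocallyNoetherian f₁
  haveI : IsLocallyNoetherian (PicF.XT f (basePt (K := K) B O)) := by
    haveI : LocallyOfFiniteType (pullback.snd f (basePt (K := K) B O).hom) := inferInstance
    haveI : IsLocallyNoetherian (basePt (K := K) B O).left :=
      inferInstanceAs (IsLocallyNoetherian (Spec (CommRingCat.of O)))
    exact LocallyOfFiniteType.isLocallyNoetherian (pullback.snd f (basePt (K := K) B O).hom)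
  have hnB : Pi1.IsNormalScheme (PicF.XT f TB) := H28Neron.isNormalScheme_of_smooth f₁ hX
  let qB : PicF.XT f TB ⟶ Spec (CommRingCat.of K) := f₁ ≫ f
  letI : (PicF.XT f TB).Over (Spec (CommRingCat.of K)) := ⟨qB⟩
  haveI : LocallyOfFinitePresentation ((PicF.XT f TB) ↘ Spec (CommRingCat.of K)) := by
    haveI : LocallyOfFiniteType qB := inferInstanceAs (LocallyOfFiniteType (f₁ ≫ f))
    show LocallyOfFinitePresentation qB
    infer_instance
  haveI : IsReduced (PicF.XT f TB) := by
    haveI : ∀ x, _root_.IsReduced ((PicF.XT f TB).presheaf.stalk x) := fun x => by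
      haveI := (hnB x).1; infer_instance
    exact isReduced_of_isReduced_stalk _
  have hsm := (Groth.Agent.S1561.result K (PicF.XT f TB)).1
  let W₁ : (PicF.XT f (basePt (K := K) B O)).Opens := U ⊔ j ⁻¹ᵁ qB.smoothLocus
  obtain ⟨L', hL', ⟨eL⟩⟩ := exists_invertible_extension' U W₁ le_sup_left
    ((Scheme.Modules.restrictFunctor e.hom).obj N) (H23Para.isInvertible_restrict e.hom hN)
    (fun z hz hzU => by
      rcases hz with hz | hz
      · exact (hzU hz).elim
      · haveI := isIso_stalkMap j z
        haveI := (hsm (j z)).1 hz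
        haveI : IsRegularLocalRing ((PicF.XT f (basePt (K := K) B O)).presheaf.stalk z) :=
          IsRegularLocalRing.of_ringEquiv (asIso (j.stalkMap z)).commRingCatIsoToRingEquiv
        haveI := H4Depth.isDomain_of_isRegularLocalRing ((PicF.XT f (basePt (K := K) B O)).presheaf.stalk z)
        exact H28Alg.ufd_of_regular _)
    (fun z hz => by
      have hzs : j z ∉ qB.smoothLocus := fun h => hz (Or.inr h)
      have hzU : z ∉ U := fun h => hz (Or.inl h)
      haveI := isIso_stalkMap j z
      refine H23Para.Samuel.isParafactorial_of_ringEquiv (asIso (j.stalkMap z)).commRingCatIsoToRingEquiv.symm ?_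
      refine H23Para.RS.isParafactorial_stalk_of_smooth hX f₁ (j z) ?_ ?_
      · haveI := (hnB (j z)).1
        haveI := (hnB (j z)).2
        by_contra hdim
        refine hzs ((hsm (j z)).2 (H1CAlg.isRegularLocalRing_of_isIntegrallyClosed ?_))
        exact le_one_of_not_two_le hdim
      · -- a proper generization in the fibre
        let x := f₁ (j z)
        let Fx := f₁.fiber x
        let π : Fx ⟶ TB.left := f₁.fiberι x ≫ pullback.snd f TB.hom
        haveI : Flat π := by
          have sq : IsPullback (f₁.fiberι x ≫ pullback.snd f TB.hom) (f₁.fiberToSpecResidueField x)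
              TB.hom (X.fromSpecResidueField x ≫ f) :=
            (IsPullback.of_hasPullback f₁ (X.fromSpecResidueField x)).paste_horiz
              (IsPullback.of_hasPullback f TB.hom).flip
          haveI : Flat (X.fromSpecResidueField x ≫ f) := H12AlgSp.flat_to_field _
          exact MorphismProperty.of_isPullback sq.flip inferInstance
        let w := f₁.asFiber (j z)
        have hπw : π w = sO.left (pullback.snd f (basePt (K := K) B O).hom z) := by
          show pullback.snd f TB.hom (f₁.fiberι x (f₁.asFiber (j z))) = _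
          rw [f₁.fiberι_asFiber]
          exact congrArg (fun m : PicF.XT f (basePt (K := K) B O) ⟶ TB.left => m z) (XTmap_snd f sO)
        let o := pullback.snd f (basePt (K := K) B O).hom z
        let η : (basePt (K := K) B O).left := (genHom (K := K) B O L).left (closedPoint L)
        have hη : η ⤳ o := by
          have he : η = (⊥ : PrimeSpectrum O) := PrimeSpectrum.ext (by
            show (maximalIdeal L).comap (algebraMap O L) = ⊥
            rw [IsLocalRing.maximalIdeal_eq_bot, ← RingHom.ker_eq_comap_bot]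
            exact (RingHom.injective_iff_ker_eq_bot _).1 (IsFractionRing.injective O L))
          rw [he]
          exact (PrimeSpectrum.le_iff_specializes _ o).1 bot_le
        obtain ⟨w', hw', hw'e⟩ := Flat.generalizingMap π (show sO.left η ⤳ π w from
          hπw ▸ hη.map sO.left.continuous)
        refine one_le_ringKrullDim_of_specializes hw' fun hww => hzU ?_
        have h1 : sO.left η = sO.left o := by rw [← hw'e, hww, hπw]
        have h2 : η = o := sO.left.isEmbedding.injective h1
        have hsq := H17.PicLim.isPullback_XTmap f (genHom (K := K) B O L)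
        obtain ⟨v, hv, -⟩ := Scheme.exists_preimage_of_isPullback hsq z (closedPoint L) h2.symm
        exact ⟨v, hv⟩)
  refine ⟨PicF.cl L', ⟨L', rfl, hL'⟩, Quot.sound ⟨?_⟩⟩
  haveI : IsOpenImmersion (e.inv ≫ U.ι) := inferInstance
  exact (Scheme.Modules.pullbackCongr he.symm).app L' ≪≫ ((Scheme.Modules.pullbackComp e.inv U.ι).app L').symm ≪≫
    (Scheme.Modules.pullback e.inv).mapIso ((Scheme.Modules.restrictFunctorIsoPullback U.ι).symm.app L' ≪≫ eL ≪≫
      (Scheme.Modules.restrictFunctorIsoPullback e.hom).app N) ≪≫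
    (Scheme.Modules.pullbackComp e.inv e.hom).app N ≪≫ (Scheme.Modules.pullbackCongr e.inv_hom_id).app N ≪≫
    (Scheme.Modules.pullbackId _).app N

end Groth.Agent.H28PicNorm
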