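import Groth.Agent.H17.PullCl
import Groth.Prelude.Def_PicRel2
import Mathlib

/-!
# Field valued points of a Picard scheme come from classes after a finite separable extension
-/

set_option autoImplicit false
set_option linter.style.haveILetI false
set_option linter.unusedSectionVars false
set_option backward.isDefEq.respectTransparency.types false

universe u

open CategoryTheory CategoryTheory.Limits AlgebraicGeometry

noncomputable section

namespace Groth.Agent.H28PicNorm

open Groth.Agent.H17.PullCl

/-- The restriction of a field valued base along a field extension. -/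
abbrev extPt {S : Scheme.{u}} {F : Type u} [Field F] (t : Spec (CommRingCat.of F) ⟶ S) (L : Type u) [Field L]
    [Algebra F L] : Over S :=
  Over.mk (Spec.map (CommRingCat.ofHom (algebraMap F L)) ≫ t)

/-- The projection of the extended point. -/
abbrev extHom {S : Scheme.{u}} {F : Type u} [Field F] (t : Spec (CommRingCat.of F) ⟶ S) (L : Type u) [Field L]
    [Algebra F L] : extPt t L ⟶ Over.mk t :=
  Over.homMk (Spec.map (CommRingCat.ofHom (algebraMap F L))) rfl

/-- A point over a field comes from a class over a finite separable extension. -/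
theorem exists_class_finite_separable {X S : Scheme.{u}} {f : X ⟶ S} {P : Over S}
    {φ : ∀ T : Over S, PicF.Cl (PicF.XT f T) → (T ⟶ P)} (hP : PicRel.IsRelPic f P φ)
    (F : Type u) [Field F] (t : Spec (CommRingCat.of F) ⟶ S) (x : Over.mk t ⟶ P) :
    ∃ (L : Type u) (_ : Field L) (_ : Algebra F L) (_ : Module.Finite F L) (_ : Algebra.IsSeparable F L)
      (c : PicF.Cl (PicF.XT f (extPt t L))), PicF.IsInvertibleCl c ∧ φ (extPt t L) c = extHom t L ≫ x := by
  obtain ⟨ι, U, hU, hU'⟩ := hP.locallySurjective (Over.mk t) x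
  obtain ⟨i, w, -⟩ := hU (IsLocalRing.closedPoint F)
  obtain ⟨c, hc, hcx⟩ := hU' i
  obtain ⟨V, hV, hwV, -⟩ := exists_isAffineOpen_mem_and_subset (x := w) (U := ⊤) trivial
  haveI : Etale (U i).hom := (U i).prop
  haveI : IsAffine V.toScheme := hV
  obtain ⟨ψ, hψ⟩ : ∃ ψ : CommRingCat.of F ⟶ Γ((U i).left, V), hV.fromSpec ≫ (U i).hom = Spec.map ψ :=
    ⟨Spec.preimage (hV.fromSpec ≫ (U i).hom), (Spec.map_preimage _).symm⟩
  letI : Algebra F Γ((U i).left, V) := ψ.hom.toAlgebra
  haveI : Etale (Spec.map ψ) := by rw [← hψ]; infer_instance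
  haveI : Algebra.Etale F Γ((U i).left, V) :=
    RingHom.etale_algebraMap.1 ((HasRingHomProperty.Spec_iff (P := @Etale)).1 inferInstance)
  haveI : Nonempty V.toScheme := ⟨⟨w, hwV⟩⟩
  haveI : Nontrivial Γ((U i).left, V) := by
    obtain ⟨q, -⟩ : ∃ q : Spec Γ((U i).left, V), hV.fromSpec q = w := by
      rw [← Set.mem_range, hV.range_fromSpec]; exact hwV
    exact ⟨0, 1, fun h => q.isPrime.ne_top ((Ideal.eq_top_iff_one _).2 (h ▸ q.asIdeal.zero_mem))⟩
  obtain ⟨m, hm⟩ := Ideal.exists_maximal Γ((U i).left, V)
  let L := Γ((U i).left, V) ⧸ m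
  letI : Field L := Ideal.Quotient.field m
  haveI : Module.Finite F Γ((U i).left, V) := Algebra.FormallyUnramified.finite_of_free F _
  haveI : Module.Finite F L := Module.Finite.of_surjective (Ideal.Quotient.mkₐ F m).toLinearMap Ideal.Quotient.mk_surjective
  haveI : Algebra.FormallyUnramified F L :=
    Algebra.FormallyUnramified.of_surjective (Ideal.Quotient.mkₐ F m) Ideal.Quotient.mk_surjective
  haveI : Algebra.IsSeparable F L := Algebra.FormallyUnramified.isSeparable F L
  let q : Spec (CommRingCat.of L) ⟶ (U i).left := Spec.map (CommRingCat.ofHom (Ideal.Quotient.mk m)) ≫ hV.fromSpec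
  have hq : q ≫ (U i).hom = Spec.map (CommRingCat.ofHom (algebraMap F L)) := by
    show (_ ≫ _) ≫ _ = _
    rw [Category.assoc, hψ, ← Spec.map_comp]
    rfl
  let g : extPt t L ⟶ PicRel.ovr (Over.mk t) (U i) := Over.homMk q (by
    show q ≫ (U i).hom ≫ t = _
    rw [reassoc_of% hq]
    rfl)
  refine ⟨L, inferInstance, inferInstance, inferInstance, inferInstance, PicF.pullCl (PicF.XTmap f g) c,
    isInvertibleCl_pullCl _ hc, ?_⟩
  rw [hP.natural _ _ g c hc, hcx, ← Category.assoc]
  exact congrArg (· ≫ x) (Over.OverMorphism.ext hq)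

end Groth.Agent.H28PicNorm
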