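import Groth.Agent.H28PicNorm.FieldClass
import Groth.Agent.H28PicNorm.DvrDescent
import Groth.Agent.H28PicNorm.CurveData
import Groth.Agent.H28PicNorm.Extend
import Groth.Agent.H7Lim.Nagata.Criteria
import Groth.Agent.H11Curve.Complete

/-!
# Closed open subschemes of finite type of the Picard scheme of a normal scheme are proper
-/

set_option autoImplicit false
set_option linter.style.haveILetI false
set_option linter.unusedSectionVars false
set_option backward.isDefEq.respectTransparency.types false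
set_option maxHeartbeats 1600000

universe u

open CategoryTheory CategoryTheory.Limits AlgebraicGeometry TopologicalSpace IsLocalRing

noncomputable section

namespace Groth.Agent.H28PicNorm

open Groth.Agent.H17.PullCl

variable {K : Type u} [Field K] [IsAlgClosed K] {X : Scheme.{u}} {f : X ⟶ Spec (CommRingCat.of K)}
  [LocallyOfFiniteType f] {P : Over (Spec (CommRingCat.of K))} [LocallyOfFiniteType P.hom]
  {φ : ∀ T : Over (Spec (CommRingCat.of K)), PicF.Cl (PicF.XT f T) → (T ⟶ P)}

/-- A closed and open quasi-compact subscheme of the Picard scheme of a normal scheme is universally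
closed. -/
theorem universallyClosed_of_clopen (hX : Pi1.IsNormalScheme X) (hP : PicRel.IsRelPic f P φ) (V : P.left.Opens)
    (hV : IsClosed (V : Set P.left)) [QuasiCompact (V.ι ≫ P.hom)] : UniversallyClosed (V.ι ≫ P.hom) := by
  have hS : ∀ W : (Spec (CommRingCat.of K)).affineOpens, CAlg.IsNagata Γ(Spec (CommRingCat.of K), W) :=
    fun W => H11Curve.isNagata_affineOpen_spec_field K W.1 W.2
  refine H7Lim.Nagata.universallyClosed_of_curveExistence hS (V.ι ≫ P.hom) (𝟙 _) (V.ι ≫ P.hom)
    (Category.comp_id _) ?_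
  intro C r _ _ _ hn c hc hd U hU u g hgr hug k hk
  rw [Category.comp_id] at hgr
  haveI := H7Lim.Nagata.isDiscreteValuationRing_stalk hS r c (hn c) hd
  obtain ⟨Vc, hVc, hcVc, -⟩ := exists_isAffineOpen_mem_and_subset (x := c) (U := ⊤) trivial
  haveI : Nonempty Vc := ⟨⟨c, hcVc⟩⟩
  haveI : IsIntegrallyClosed Γ(C, Vc) := H7Lim.isIntegrallyClosed_section hn hVc
  obtain ⟨ψ, hψ⟩ : ∃ ψ : CommRingCat.of K ⟶ Γ(C, Vc), hVc.fromSpec ≫ r = Spec.map ψ :=
    ⟨Spec.preimage (hVc.fromSpec ≫ r), (Spec.map_preimage _).symm⟩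
  letI : Algebra K Γ(C, Vc) := ψ.hom.toAlgebra
  haveI : LocallyOfFiniteType (Spec.map ψ) := by rw [← hψ]; infer_instance
  haveI : Algebra.FiniteType K Γ(C, Vc) :=
    RingHom.finiteType_algebraMap.1 ((HasRingHomProperty.Spec_iff (P := @LocallyOfFiniteType)).1 inferInstance)
  letI : Algebra Γ(C, Vc) (C.presheaf.stalk c) := C.presheaf.algebra_section_stalk ⟨c, hcVc⟩
  let p := (hVc.primeIdealOf ⟨c, hcVc⟩).asIdeal
  haveI : p.IsMaximal := hVc.primeIdealOf_isMaximal_of_isClosed ⟨c, hcVc⟩ hc
  haveI : IsLocalization.AtPrime (C.presheaf.stalk c) p := hVc.isLocalization_stalk ⟨c, hcVc⟩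
  let F := FractionRing (C.presheaf.stalk c)
  let x₀ : Spec (CommRingCat.of F) ⟶ P.left := k ≫ u ≫ V.ι
  let κ : K →+* F := (algebraMap (C.presheaf.stalk c) F).comp
    ((algebraMap Γ(C, Vc) (C.presheaf.stalk c)).comp (algebraMap K Γ(C, Vc)))
  have hc0 : C.fromSpecStalk c ≫ r =
      Spec.map (CommRingCat.ofHom ((algebraMap Γ(C, Vc) (C.presheaf.stalk c)).comp (algebraMap K Γ(C, Vc)))) := by
    rw [← hVc.fromSpecStalk_eq_fromSpecStalk hcVc, IsAffineOpen.fromSpecStalk, Category.assoc, hψ, ← Spec.map_comp]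
    rfl
  have hx₀ : x₀ ≫ P.hom = Spec.map (CommRingCat.ofHom κ) := by
    show (k ≫ u ≫ V.ι) ≫ P.hom = _
    rw [Category.assoc, Category.assoc, hug, hgr, reassoc_of% hk, hc0, ← Spec.map_comp]
    rfl
  let t : Spec (CommRingCat.of F) ⟶ Spec (CommRingCat.of K) := Spec.map (CommRingCat.ofHom κ)
  let x : Over.mk t ⟶ P := Over.homMk x₀ hx₀
  obtain ⟨L, _, _, _, _, cL, hcL, hcLx⟩ := exists_class_finite_separable hP F t x
  obtain ⟨B, _, _, _, O, _, _, _, _, M, _, _, _, ρ, _, hρL, hρK⟩ :=
    exists_smooth_data_ring K Γ(C, Vc) (C.presheaf.stalk c) p F L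
  have heq : (genPt (K := K) B O L).hom = (extPt t L).hom := by
    show Spec.map _ ≫ Spec.map _ = Spec.map _ ≫ Spec.map _
    rw [← Spec.map_comp, ← Spec.map_comp]
    refine congrArg Spec.map (CommRingCat.hom_ext (RingHom.ext fun a => ?_))
    show algebraMap O L (((algebraMap B O).comp (algebraMap K B)) a) = algebraMap F L (κ a)
    rw [← hρK]
    exact DFunLike.congr_fun hρL ((algebraMap Γ(C, Vc) (C.presheaf.stalk c)) (algebraMap K Γ(C, Vc) a))
  let i : genPt (K := K) B O L ⟶ extPt t L := Over.homMk (𝟙 _) ((Category.id_comp _).trans heq.symm)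
  obtain ⟨c', hc', hcc'⟩ := exists_extension_class f B O M L hX (PicF.pullCl (PicF.XTmap f i) cL)
    (isInvertibleCl_pullCl _ hcL)
  let h := φ (basePt (K := K) B O) c'
  have hgen : genHom (K := K) B O L ≫ h = i ≫ extHom t L ≫ x := by
    rw [← hP.natural _ _ _ c' hc', hcc', hP.natural _ _ _ cL hcL, hcLx]
  have hleft : Spec.map (CommRingCat.ofHom (algebraMap O L)) ≫ h.left =
      Spec.map (CommRingCat.ofHom (algebraMap F L)) ≫ x₀ := by
    have := congrArg Over.Hom.left hgen
    simpa [i, x] using this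
  obtain ⟨l₀, hl₀⟩ := exists_lift_of_dominating ρ (algebraMap O L) (IsFractionRing.injective O L) (algebraMap F L)
    hρL x₀ h.left hleft
  have hlV : Set.range l₀ ⊆ Set.range V.ι := by
    rw [V.range_ι]
    rintro _ ⟨z, rfl⟩
    let j := Spec.map (CommRingCat.ofHom (algebraMap (C.presheaf.stalk c) F))
    have h1 : l₀ (j (closedPoint F)) ∈ V := by
      rw [← Scheme.Hom.comp_apply, hl₀]
      exact ((k ≫ u) (closedPoint F)).2
    have h2 : j (closedPoint F) ⤳ z := by
      have he : j (closedPoint F) = (⊥ : PrimeSpectrum (C.presheaf.stalk c)) := PrimeSpectrum.ext (by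
        show (maximalIdeal F).comap (algebraMap (C.presheaf.stalk c) F) = ⊥
        rw [IsLocalRing.maximalIdeal_eq_bot, ← RingHom.ker_eq_comap_bot]
        exact (RingHom.injective_iff_ker_eq_bot _).1 (IsFractionRing.injective _ F))
      rw [he]
      exact (PrimeSpectrum.le_iff_specializes _ z).1 bot_le
    exact (h2.map l₀.continuous).mem_closed hV h1
  refine ⟨IsOpenImmersion.lift V.ι l₀ hlV, ?_, ?_⟩
  · rw [IsOpenImmersion.lift_fac_assoc, hgr, hc0]
    obtain ⟨m, hm⟩ : ∃ m : CommRingCat.of K ⟶ C.presheaf.stalk c, l₀ ≫ P.hom = Spec.map m :=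
      ⟨Spec.preimage (l₀ ≫ P.hom), (Spec.map_preimage _).symm⟩
    rw [hm]
    refine congrArg Spec.map ?_
    have h3 : Spec.map (m ≫ CommRingCat.ofHom (algebraMap (C.presheaf.stalk c) F)) = Spec.map (CommRingCat.ofHom κ) := by
      rw [Spec.map_comp, ← hm]
      exact (Category.assoc _ _ _).symm.trans ((congrArg (· ≫ P.hom) hl₀).trans hx₀)
    refine CommRingCat.hom_ext (RingHom.ext fun a => IsFractionRing.injective (C.presheaf.stalk c) F ?_)
    exact congrArg (fun q => q.hom a) (Spec.map_injective h3)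
  · rw [← cancel_mono V.ι, Category.assoc, IsOpenImmersion.lift_fac, Category.assoc]
    exact hl₀

end Groth.Agent.H28PicNorm
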